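import Cfsg.Agent.Spor.J4K.D0

set_option autoImplicit false
set_option maxRecDepth 100000000
set_option Elab.async false

namespace Cfsg.Agent.Spor.J4K

theorem ok0 : Net.okb 10 n0 = true := by decide +kernel

theorem ok1 : Net.okb 10 n1 = true := by decide +kernel

theorem rel0 : T.rel 10 [1, 1, 1] 0 10 = true := by decide +kernel

theorem rel1 : T.rel 10 [2, 2, 2, 2, 2, 2] 0 10 = true := by decide +kernel

theorem rel2 : T.rel 10 [1, 2, 2, 3, 4, 1, 2, 2, 3, 4] 0 10 = true := by decide +kernel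

theorem rel3 : T.rel 10 [1, 2, 2, 1, 4, 4, 1, 2, 2, 1, 4, 4] 0 10 = true := by decide +kernel

theorem rel4 : T.rel 10 [1, 2, 1, 2, 2, 1, 4, 3, 4, 3, 2, 3, 2] 0 10 = true := by decide +kernel

theorem rel5 : T.rel 10 [1, 4, 1, 4, 1, 4, 1, 4, 1, 4] 0 10 = true := by decide +kernel

theorem hcov : T.treeCov (ones 960) L 1 = true := by decide +kernel

theorem hg : lall (fun z => band (memL L z) (band (sub (ones 960) (T.let z).cl) (T.closed (ones 960) z))) gs = true := by decide +kernel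

theorem rot1_1 : T.rot 1 [3] (sel (ones 960) ip1 1) = true := by decide +kernel

theorem rot1_1r : band (Rule.ok (2 * 0) EX RL ⟨1 :: [3], [], 6, false⟩) (lall (memL L) [3]) = true := by decide +kernel

theorem rot1_2 : T.rot 1 [1, 1] (sel (ones 960) ip1 2) = true := by decide +kernel

theorem rot1_2r : band (Rule.ok (2 * 0) EX RL ⟨1 :: [1, 1], [], 0, true⟩) (lall (memL L) [1, 1]) = true := by decide +kernel

theorem rot1_3 : T.rot 1 [2, 2, 3, 4, 1, 2, 2, 3, 4] (sel (ones 960) ip1 3) = true := by decide +kernel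

theorem rot1_3r : band (Rule.ok (2 * 0) EX RL ⟨1 :: [2, 2, 3, 4, 1, 2, 2, 3, 4], [], 2, true⟩) (lall (memL L) [2, 2, 3, 4, 1, 2, 2, 3, 4]) = true := by decide +kernel

theorem rot1_4 : T.rot 1 [4, 4, 3, 2, 1, 4, 4, 3, 2] (sel (ones 960) ip1 4) = true := by decide +kernel

theorem rot1_4r : band (Rule.ok (2 * 0) EX RL ⟨1 :: [4, 4, 3, 2, 1, 4, 4, 3, 2], [3], 2, false⟩) (lall (memL L) [4, 4, 3, 2, 1, 4, 4, 3, 2]) = true := by decide +kernel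

theorem rot1_5 : T.rot 1 [4, 1, 4, 1, 4, 1, 4, 1, 4] (sel (ones 960) ip1 5) = true := by decide +kernel

theorem rot1_5r : band (Rule.ok (2 * 0) EX RL ⟨1 :: [4, 1, 4, 1, 4, 1, 4, 1, 4], [], 5, true⟩) (lall (memL L) [4, 1, 4, 1, 4, 1, 4, 1, 4]) = true := by decide +kernel

theorem rot1_6 : T.rot 1 [2, 2, 1, 4, 4, 1, 2, 2, 1, 4, 4] (sel (ones 960) ip1 6) = true := by decide +kernel

theorem rot1_6r : band (Rule.ok (2 * 0) EX RL ⟨1 :: [2, 2, 1, 4, 4, 1, 2, 2, 1, 4, 4], [], 3, true⟩) (lall (memL L) [2, 2, 1, 4, 4, 1, 2, 2, 1, 4, 4]) = true := by decide +kernel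

theorem rot1_7 : T.rot 1 [4, 4, 1, 2, 2, 1, 4, 4, 1, 2, 2] (sel (ones 960) ip1 7) = true := by decide +kernel

theorem rot1_7r : band (Rule.ok (2 * 0) EX RL ⟨1 :: [4, 4, 1, 2, 2, 1, 4, 4, 1, 2, 2], [3, 3, 0], 3, true⟩) (lall (memL L) [4, 4, 1, 2, 2, 1, 4, 4, 1, 2, 2]) = true := by decide +kernel

theorem rot1_8 : T.rot 1 [2, 1, 2, 2, 1, 4, 3, 4, 3, 2, 3, 2] (sel (ones 960) ip1 8) = true := by decide +kernel

theorem rot1_8r : band (Rule.ok (2 * 0) EX RL ⟨1 :: [2, 1, 2, 2, 1, 4, 3, 4, 3, 2, 3, 2], [], 4, true⟩) (lall (memL L) [2, 1, 2, 2, 1, 4, 3, 4, 3, 2, 3, 2]) = true := by decide +kernel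

theorem rot1_9 : T.rot 1 [2, 2, 1, 4, 3, 4, 3, 2, 3, 2, 1, 2] (sel (ones 960) ip1 9) = true := by decide +kernel

theorem rot1_9r : band (Rule.ok (2 * 0) EX RL ⟨1 :: [2, 2, 1, 4, 3, 4, 3, 2, 3, 2, 1, 2], [1, 3], 4, true⟩) (lall (memL L) [2, 2, 1, 4, 3, 4, 3, 2, 3, 2, 1, 2]) = true := by decide +kernel

theorem rot1_10 : T.rot 1 [4, 3, 4, 3, 2, 3, 2, 1, 2, 1, 2, 2] (sel (ones 960) ip1 10) = true := by decide +kernel

theorem rot1_10r : band (Rule.ok (2 * 0) EX RL ⟨1 :: [4, 3, 4, 3, 2, 3, 2, 1, 2, 1, 2, 2], [1, 3, 1, 3, 3], 4, true⟩) (lall (memL L) [4, 3, 4, 3, 2, 3, 2, 1, 2, 1, 2, 2]) = true := by decide +kernel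

theorem rot1_11 : T.rot 1 [4, 1, 2, 1, 2, 3, 4, 4, 3, 4, 3, 4] (sel (ones 960) ip1 11) = true := by decide +kernel

theorem rot1_11r : band (Rule.ok (2 * 0) EX RL ⟨1 :: [4, 1, 2, 1, 2, 3, 4, 4, 3, 4, 3, 4], [2], 4, false⟩) (lall (memL L) [4, 1, 2, 1, 2, 3, 4, 4, 3, 4, 3, 4]) = true := by decide +kernel

theorem rot1_12 : T.rot 1 [2, 1, 2, 3, 4, 4, 3, 4, 3, 4, 1, 4] (sel (ones 960) ip1 12) = true := by decide +kernel

theorem rot1_12r : band (Rule.ok (2 * 0) EX RL ⟨1 :: [2, 1, 2, 3, 4, 4, 3, 4, 3, 4, 1, 4], [2, 1, 2], 4, false⟩) (lall (memL L) [2, 1, 2, 3, 4, 4, 3, 4, 3, 4, 1, 4]) = true := by decide +kernel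

theorem rot1_13 : T.rot 1 [2, 3, 4, 4, 3, 4, 3, 4, 1, 4, 1, 2] (sel (ones 960) ip1 13) = true := by decide +kernel

theorem rot1_13r : band (Rule.ok (2 * 0) EX RL ⟨1 :: [2, 3, 4, 4, 3, 4, 3, 4, 1, 4, 1, 2], [2, 1, 2, 1, 3], 4, false⟩) (lall (memL L) [2, 3, 4, 4, 3, 4, 3, 4, 1, 4, 1, 2]) = true := by decide +kernel

theorem cov1 : T.cover 1 [(sel (ones 960) ip1 1), (sel (ones 960) ip1 2), (sel (ones 960) ip1 3), (sel (ones 960) ip1 4), (sel (ones 960) ip1 5), (sel (ones 960) ip1 6), (sel (ones 960) ip1 7), (sel (ones 960) ip1 8), (sel (ones 960) ip1 9), (sel (ones 960) ip1 10), (sel (ones 960) ip1 11), (sel (ones 960) ip1 12), (sel (ones 960) ip1 13)] = true := by decide +kernel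

theorem tl1 : T.treeLt 10 1 = true := by decide +kernel

theorem rot2_1 : T.rot 2 [4] (sel (ones 960) ip2 1) = true := by decide +kernel

theorem rot2_1r : band (Rule.ok (2 * 0) EX RL ⟨2 :: [4], [], 6, false⟩) (lall (memL L) [4]) = true := by decide +kernel

theorem rot2_2 : T.rot 2 [2, 2, 2, 2, 2] (sel (ones 960) ip2 2) = true := by decide +kernel

theorem rot2_2r : band (Rule.ok (2 * 0) EX RL ⟨2 :: [2, 2, 2, 2, 2], [], 1, true⟩) (lall (memL L) [2, 2, 2, 2, 2]) = true := by decide +kernel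

theorem rot2_3 : T.rot 2 [2, 3, 4, 1, 2, 2, 3, 4, 1] (sel (ones 960) ip2 3) = true := by decide +kernel

theorem rot2_3r : band (Rule.ok (2 * 0) EX RL ⟨2 :: [2, 3, 4, 1, 2, 2, 3, 4, 1], [1], 2, true⟩) (lall (memL L) [2, 3, 4, 1, 2, 2, 3, 4, 1]) = true := by decide +kernel

theorem rot2_4 : T.rot 2 [3, 4, 1, 2, 2, 3, 4, 1, 2] (sel (ones 960) ip2 4) = true := by decide +kernel

theorem rot2_4r : band (Rule.ok (2 * 0) EX RL ⟨2 :: [3, 4, 1, 2, 2, 3, 4, 1, 2], [1, 3], 2, true⟩) (lall (memL L) [3, 4, 1, 2, 2, 3, 4, 1, 2]) = true := by decide +kernel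

theorem rot2_5 : T.rot 2 [1, 4, 4, 3, 2, 1, 4, 4, 3] (sel (ones 960) ip2 5) = true := by decide +kernel

theorem rot2_5r : band (Rule.ok (2 * 0) EX RL ⟨2 :: [1, 4, 4, 3, 2, 1, 4, 4, 3], [], 2, false⟩) (lall (memL L) [1, 4, 4, 3, 2, 1, 4, 4, 3]) = true := by decide +kernel

theorem rot2_6 : T.rot 2 [3, 2, 3, 2, 3, 2, 3, 2, 3] (sel (ones 960) ip2 6) = true := by decide +kernel

theorem rot2_6r : band (Rule.ok (2 * 0) EX RL ⟨2 :: [3, 2, 3, 2, 3, 2, 3, 2, 3], [], 5, false⟩) (lall (memL L) [3, 2, 3, 2, 3, 2, 3, 2, 3]) = true := by decide +kernel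

theorem rot2_7 : T.rot 2 [2, 1, 4, 4, 1, 2, 2, 1, 4, 4, 1] (sel (ones 960) ip2 7) = true := by decide +kernel

theorem rot2_7r : band (Rule.ok (2 * 0) EX RL ⟨2 :: [2, 1, 4, 4, 1, 2, 2, 1, 4, 4, 1], [1], 3, true⟩) (lall (memL L) [2, 1, 4, 4, 1, 2, 2, 1, 4, 4, 1]) = true := by decide +kernel

theorem rot2_8 : T.rot 2 [1, 4, 4, 1, 2, 2, 1, 4, 4, 1, 2] (sel (ones 960) ip2 8) = true := by decide +kernel

theorem rot2_8r : band (Rule.ok (2 * 0) EX RL ⟨2 :: [1, 4, 4, 1, 2, 2, 1, 4, 4, 1, 2], [1, 3], 3, true⟩) (lall (memL L) [1, 4, 4, 1, 2, 2, 1, 4, 4, 1, 2]) = true := by decide +kernel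

theorem rot2_9 : T.rot 2 [2, 3, 4, 4, 3, 2, 2, 3, 4, 4, 3] (sel (ones 960) ip2 9) = true := by decide +kernel

theorem rot2_9r : band (Rule.ok (2 * 0) EX RL ⟨2 :: [2, 3, 4, 4, 3, 2, 2, 3, 4, 4, 3], [], 3, false⟩) (lall (memL L) [2, 3, 4, 4, 3, 2, 2, 3, 4, 4, 3]) = true := by decide +kernel

theorem rot2_10 : T.rot 2 [3, 4, 4, 3, 2, 2, 3, 4, 4, 3, 2] (sel (ones 960) ip2 10) = true := by decide +kernel

theorem rot2_10r : band (Rule.ok (2 * 0) EX RL ⟨2 :: [3, 4, 4, 3, 2, 2, 3, 4, 4, 3, 2], [3], 3, false⟩) (lall (memL L) [3, 4, 4, 3, 2, 2, 3, 4, 4, 3, 2]) = true := by decide +kernel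

theorem rot2_11 : T.rot 2 [1, 2, 2, 1, 4, 3, 4, 3, 2, 3, 2, 1] (sel (ones 960) ip2 11) = true := by decide +kernel

theorem rot2_11r : band (Rule.ok (2 * 0) EX RL ⟨2 :: [1, 2, 2, 1, 4, 3, 4, 3, 2, 3, 2, 1], [1], 4, true⟩) (lall (memL L) [1, 2, 2, 1, 4, 3, 4, 3, 2, 3, 2, 1]) = true := by decide +kernel

theorem rot2_12 : T.rot 2 [2, 1, 4, 3, 4, 3, 2, 3, 2, 1, 2, 1] (sel (ones 960) ip2 12) = true := by decide +kernel

theorem rot2_12r : band (Rule.ok (2 * 0) EX RL ⟨2 :: [2, 1, 4, 3, 4, 3, 2, 3, 2, 1, 2, 1], [1, 3, 1], 4, true⟩) (lall (memL L) [2, 1, 4, 3, 4, 3, 2, 3, 2, 1, 2, 1]) = true := by decide +kernel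

theorem rot2_13 : T.rot 2 [1, 4, 3, 4, 3, 2, 3, 2, 1, 2, 1, 2] (sel (ones 960) ip2 13) = true := by decide +kernel

theorem rot2_13r : band (Rule.ok (2 * 0) EX RL ⟨2 :: [1, 4, 3, 4, 3, 2, 3, 2, 1, 2, 1, 2], [1, 3, 1, 3], 4, true⟩) (lall (memL L) [1, 4, 3, 4, 3, 2, 3, 2, 1, 2, 1, 2]) = true := by decide +kernel

theorem rot2_14 : T.rot 2 [3, 2, 1, 2, 1, 2, 2, 1, 4, 3, 4, 3] (sel (ones 960) ip2 14) = true := by decide +kernel

theorem rot2_14r : band (Rule.ok (2 * 0) EX RL ⟨2 :: [3, 2, 1, 2, 1, 2, 2, 1, 4, 3, 4, 3], [2, 1, 2], 4, true⟩) (lall (memL L) [3, 2, 1, 2, 1, 2, 2, 1, 4, 3, 4, 3]) = true := by decide +kernel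

theorem rot2_15 : T.rot 2 [1, 2, 1, 2, 2, 1, 4, 3, 4, 3, 2, 3] (sel (ones 960) ip2 15) = true := by decide +kernel

theorem rot2_15r : band (Rule.ok (2 * 0) EX RL ⟨2 :: [1, 2, 1, 2, 2, 1, 4, 3, 4, 3, 2, 3], [2], 4, true⟩) (lall (memL L) [1, 2, 1, 2, 2, 1, 4, 3, 4, 3, 2, 3]) = true := by decide +kernel

theorem rot2_16 : T.rot 2 [1, 2, 3, 4, 4, 3, 4, 3, 4, 1, 4, 1] (sel (ones 960) ip2 16) = true := by decide +kernel

theorem rot2_16r : band (Rule.ok (2 * 0) EX RL ⟨2 :: [1, 2, 3, 4, 4, 3, 4, 3, 4, 1, 4, 1], [2, 1, 2, 1], 4, false⟩) (lall (memL L) [1, 2, 3, 4, 4, 3, 4, 3, 4, 1, 4, 1]) = true := by decide +kernel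

theorem rot2_17 : T.rot 2 [3, 4, 4, 3, 4, 3, 4, 1, 4, 1, 2, 1] (sel (ones 960) ip2 17) = true := by decide +kernel

theorem rot2_17r : band (Rule.ok (2 * 0) EX RL ⟨2 :: [3, 4, 4, 3, 4, 3, 4, 1, 4, 1, 2, 1], [2, 1, 2, 1, 3, 1], 4, false⟩) (lall (memL L) [3, 4, 4, 3, 4, 3, 4, 1, 4, 1, 2, 1]) = true := by decide +kernel

theorem cov2 : T.cover 2 [(sel (ones 960) ip2 1), (sel (ones 960) ip2 2), (sel (ones 960) ip2 3), (sel (ones 960) ip2 4), (sel (ones 960) ip2 5), (sel (ones 960) ip2 6), (sel (ones 960) ip2 7), (sel (ones 960) ip2 8), (sel (ones 960) ip2 9), (sel (ones 960) ip2 10), (sel (ones 960) ip2 11), (sel (ones 960) ip2 12), (sel (ones 960) ip2 13), (sel (ones 960) ip2 14), (sel (ones 960) ip2 15), (sel (ones 960) ip2 16), (sel (ones 960) ip2 17)] = true := by decide +kernel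

theorem tl2 : T.treeLt 10 2 = true := by decide +kernel

theorem rot3_1 : T.rot 3 [1] (sel (ones 960) ip3 1) = true := by decide +kernel

theorem rot3_1r : band (Rule.ok (2 * 0) EX RL ⟨3 :: [1], [], 6, false⟩) (lall (memL L) [1]) = true := by decide +kernel

theorem rot3_2 : T.rot 3 [3, 3] (sel (ones 960) ip3 2) = true := by decide +kernel

theorem rot3_2r : band (Rule.ok (2 * 0) EX RL ⟨3 :: [3, 3], [], 0, false⟩) (lall (memL L) [3, 3]) = true := by decide +kernel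

theorem rot3_3 : T.rot 3 [4, 1, 2, 2, 3, 4, 1, 2, 2] (sel (ones 960) ip3 3) = true := by decide +kernel

theorem rot3_3r : band (Rule.ok (2 * 0) EX RL ⟨3 :: [4, 1, 2, 2, 3, 4, 1, 2, 2], [3, 1], 2, true⟩) (lall (memL L) [4, 1, 2, 2, 3, 4, 1, 2, 2]) = true := by decide +kernel

theorem rot3_4 : T.rot 3 [2, 1, 4, 4, 3, 2, 1, 4, 4] (sel (ones 960) ip3 4) = true := by decide +kernel

theorem rot3_4r : band (Rule.ok (2 * 0) EX RL ⟨3 :: [2, 1, 4, 4, 3, 2, 1, 4, 4], [1], 2, false⟩) (lall (memL L) [2, 1, 4, 4, 3, 2, 1, 4, 4]) = true := by decide +kernel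

theorem rot3_5 : T.rot 3 [2, 3, 2, 3, 2, 3, 2, 3, 2] (sel (ones 960) ip3 5) = true := by decide +kernel

theorem rot3_5r : band (Rule.ok (2 * 0) EX RL ⟨3 :: [2, 3, 2, 3, 2, 3, 2, 3, 2], [1], 5, false⟩) (lall (memL L) [2, 3, 2, 3, 2, 3, 2, 3, 2]) = true := by decide +kernel

theorem rot3_6 : T.rot 3 [4, 4, 3, 2, 2, 3, 4, 4, 3, 2, 2] (sel (ones 960) ip3 6) = true := by decide +kernel

theorem rot3_6r : band (Rule.ok (2 * 0) EX RL ⟨3 :: [4, 4, 3, 2, 2, 3, 4, 4, 3, 2, 2], [3, 3], 3, false⟩) (lall (memL L) [4, 4, 3, 2, 2, 3, 4, 4, 3, 2, 2]) = true := by decide +kernel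

theorem rot3_7 : T.rot 3 [2, 2, 3, 4, 4, 3, 2, 2, 3, 4, 4] (sel (ones 960) ip3 7) = true := by decide +kernel

theorem rot3_7r : band (Rule.ok (2 * 0) EX RL ⟨3 :: [2, 2, 3, 4, 4, 3, 2, 2, 3, 4, 4], [1], 3, false⟩) (lall (memL L) [2, 2, 3, 4, 4, 3, 2, 2, 3, 4, 4]) = true := by decide +kernel

theorem rot3_8 : T.rot 3 [4, 3, 2, 3, 2, 1, 2, 1, 2, 2, 1, 4] (sel (ones 960) ip3 8) = true := by decide +kernel

theorem rot3_8r : band (Rule.ok (2 * 0) EX RL ⟨3 :: [4, 3, 2, 3, 2, 1, 2, 1, 2, 2, 1, 4], [2, 1, 2, 1, 3, 1], 4, true⟩) (lall (memL L) [4, 3, 2, 3, 2, 1, 2, 1, 2, 2, 1, 4]) = true := by decide +kernel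

theorem rot3_9 : T.rot 3 [2, 3, 2, 1, 2, 1, 2, 2, 1, 4, 3, 4] (sel (ones 960) ip3 9) = true := by decide +kernel

theorem rot3_9r : band (Rule.ok (2 * 0) EX RL ⟨3 :: [2, 3, 2, 1, 2, 1, 2, 2, 1, 4, 3, 4], [2, 1, 2, 1], 4, true⟩) (lall (memL L) [2, 3, 2, 1, 2, 1, 2, 2, 1, 4, 3, 4]) = true := by decide +kernel

theorem rot3_10 : T.rot 3 [2, 1, 2, 1, 2, 2, 1, 4, 3, 4, 3, 2] (sel (ones 960) ip3 10) = true := by decide +kernel

theorem rot3_10r : band (Rule.ok (2 * 0) EX RL ⟨3 :: [2, 1, 2, 1, 2, 2, 1, 4, 3, 4, 3, 2], [2, 1], 4, true⟩) (lall (memL L) [2, 1, 2, 1, 2, 2, 1, 4, 3, 4, 3, 2]) = true := by decide +kernel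

theorem rot3_11 : T.rot 3 [4, 4, 3, 4, 3, 4, 1, 4, 1, 2, 1, 2] (sel (ones 960) ip3 11) = true := by decide +kernel

theorem rot3_11r : band (Rule.ok (2 * 0) EX RL ⟨3 :: [4, 4, 3, 4, 3, 4, 1, 4, 1, 2, 1, 2], [1, 3, 1, 3, 3, 1], 4, false⟩) (lall (memL L) [4, 4, 3, 4, 3, 4, 1, 4, 1, 2, 1, 2]) = true := by decide +kernel

theorem rot3_12 : T.rot 3 [4, 3, 4, 1, 4, 1, 2, 1, 2, 3, 4, 4] (sel (ones 960) ip3 12) = true := by decide +kernel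

theorem rot3_12r : band (Rule.ok (2 * 0) EX RL ⟨3 :: [4, 3, 4, 1, 4, 1, 2, 1, 2, 3, 4, 4], [1, 3, 1], 4, false⟩) (lall (memL L) [4, 3, 4, 1, 4, 1, 2, 1, 2, 3, 4, 4]) = true := by decide +kernel

theorem rot3_13 : T.rot 3 [4, 1, 4, 1, 2, 1, 2, 3, 4, 4, 3, 4] (sel (ones 960) ip3 13) = true := by decide +kernel

theorem rot3_13r : band (Rule.ok (2 * 0) EX RL ⟨3 :: [4, 1, 4, 1, 2, 1, 2, 3, 4, 4, 3, 4], [1], 4, false⟩) (lall (memL L) [4, 1, 4, 1, 2, 1, 2, 3, 4, 4, 3, 4]) = true := by decide +kernel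

theorem cov3 : T.cover 3 [(sel (ones 960) ip3 1), (sel (ones 960) ip3 2), (sel (ones 960) ip3 3), (sel (ones 960) ip3 4), (sel (ones 960) ip3 5), (sel (ones 960) ip3 6), (sel (ones 960) ip3 7), (sel (ones 960) ip3 8), (sel (ones 960) ip3 9), (sel (ones 960) ip3 10), (sel (ones 960) ip3 11), (sel (ones 960) ip3 12), (sel (ones 960) ip3 13)] = true := by decide +kernel

theorem tl3 : T.treeLt 10 3 = true := by decide +kernel

theorem rot4_1 : T.rot 4 [2] (sel (ones 960) ip4 1) = true := by decide +kernel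

theorem rot4_1r : band (Rule.ok (2 * 0) EX RL ⟨4 :: [2], [], 6, false⟩) (lall (memL L) [2]) = true := by decide +kernel

theorem rot4_2 : T.rot 4 [4, 4, 4, 4, 4] (sel (ones 960) ip4 2) = true := by decide +kernel

theorem rot4_2r : band (Rule.ok (2 * 0) EX RL ⟨4 :: [4, 4, 4, 4, 4], [], 1, false⟩) (lall (memL L) [4, 4, 4, 4, 4]) = true := by decide +kernel

theorem rot4_3 : T.rot 4 [1, 2, 2, 3, 4, 1, 2, 2, 3] (sel (ones 960) ip4 3) = true := by decide +kernel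

theorem rot4_3r : band (Rule.ok (2 * 0) EX RL ⟨4 :: [1, 2, 2, 3, 4, 1, 2, 2, 3], [3], 2, true⟩) (lall (memL L) [1, 2, 2, 3, 4, 1, 2, 2, 3]) = true := by decide +kernel

theorem rot4_4 : T.rot 4 [4, 3, 2, 1, 4, 4, 3, 2, 1] (sel (ones 960) ip4 4) = true := by decide +kernel

theorem rot4_4r : band (Rule.ok (2 * 0) EX RL ⟨4 :: [4, 3, 2, 1, 4, 4, 3, 2, 1], [3, 1], 2, false⟩) (lall (memL L) [4, 3, 2, 1, 4, 4, 3, 2, 1]) = true := by decide +kernel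

theorem rot4_5 : T.rot 4 [3, 2, 1, 4, 4, 3, 2, 1, 4] (sel (ones 960) ip4 5) = true := by decide +kernel

theorem rot4_5r : band (Rule.ok (2 * 0) EX RL ⟨4 :: [3, 2, 1, 4, 4, 3, 2, 1, 4], [1, 3], 2, false⟩) (lall (memL L) [3, 2, 1, 4, 4, 3, 2, 1, 4]) = true := by decide +kernel

theorem rot4_6 : T.rot 4 [1, 4, 1, 4, 1, 4, 1, 4, 1] (sel (ones 960) ip4 6) = true := by decide +kernel

theorem rot4_6r : band (Rule.ok (2 * 0) EX RL ⟨4 :: [1, 4, 1, 4, 1, 4, 1, 4, 1], [3], 5, true⟩) (lall (memL L) [1, 4, 1, 4, 1, 4, 1, 4, 1]) = true := by decide +kernel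

theorem rot4_7 : T.rot 4 [4, 1, 2, 2, 1, 4, 4, 1, 2, 2, 1] (sel (ones 960) ip4 7) = true := by decide +kernel

theorem rot4_7r : band (Rule.ok (2 * 0) EX RL ⟨4 :: [4, 1, 2, 2, 1, 4, 4, 1, 2, 2, 1], [3, 3], 3, true⟩) (lall (memL L) [4, 1, 2, 2, 1, 4, 4, 1, 2, 2, 1]) = true := by decide +kernel

theorem rot4_8 : T.rot 4 [1, 2, 2, 1, 4, 4, 1, 2, 2, 1, 4] (sel (ones 960) ip4 8) = true := by decide +kernel

theorem rot4_8r : band (Rule.ok (2 * 0) EX RL ⟨4 :: [1, 2, 2, 1, 4, 4, 1, 2, 2, 1, 4], [3], 3, true⟩) (lall (memL L) [1, 2, 2, 1, 4, 4, 1, 2, 2, 1, 4]) = true := by decide +kernel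

theorem rot4_9 : T.rot 4 [4, 3, 2, 2, 3, 4, 4, 3, 2, 2, 3] (sel (ones 960) ip4 9) = true := by decide +kernel

theorem rot4_9r : band (Rule.ok (2 * 0) EX RL ⟨4 :: [4, 3, 2, 2, 3, 4, 4, 3, 2, 2, 3], [1, 3, 3], 3, false⟩) (lall (memL L) [4, 3, 2, 2, 3, 4, 4, 3, 2, 2, 3]) = true := by decide +kernel

theorem rot4_10 : T.rot 4 [3, 2, 2, 3, 4, 4, 3, 2, 2, 3, 4] (sel (ones 960) ip4 10) = true := by decide +kernel

theorem rot4_10r : band (Rule.ok (2 * 0) EX RL ⟨4 :: [3, 2, 2, 3, 4, 4, 3, 2, 2, 3, 4], [1, 3], 3, false⟩) (lall (memL L) [3, 2, 2, 3, 4, 4, 3, 2, 2, 3, 4]) = true := by decide +kernel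

theorem rot4_11 : T.rot 4 [3, 4, 3, 2, 3, 2, 1, 2, 1, 2, 2, 1] (sel (ones 960) ip4 11) = true := by decide +kernel

theorem rot4_11r : band (Rule.ok (2 * 0) EX RL ⟨4 :: [3, 4, 3, 2, 3, 2, 1, 2, 1, 2, 2, 1], [1, 3, 1, 3, 3, 1], 4, true⟩) (lall (memL L) [3, 4, 3, 2, 3, 2, 1, 2, 1, 2, 2, 1]) = true := by decide +kernel

theorem rot4_12 : T.rot 4 [3, 2, 3, 2, 1, 2, 1, 2, 2, 1, 4, 3] (sel (ones 960) ip4 12) = true := by decide +kernel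

theorem rot4_12r : band (Rule.ok (2 * 0) EX RL ⟨4 :: [3, 2, 3, 2, 1, 2, 1, 2, 2, 1, 4, 3], [2, 1, 2, 1, 3], 4, true⟩) (lall (memL L) [3, 2, 3, 2, 1, 2, 1, 2, 2, 1, 4, 3]) = true := by decide +kernel

theorem rot4_13 : T.rot 4 [1, 4, 1, 2, 1, 2, 3, 4, 4, 3, 4, 3] (sel (ones 960) ip4 13) = true := by decide +kernel

theorem rot4_13r : band (Rule.ok (2 * 0) EX RL ⟨4 :: [1, 4, 1, 2, 1, 2, 3, 4, 4, 3, 4, 3], [], 4, false⟩) (lall (memL L) [1, 4, 1, 2, 1, 2, 3, 4, 4, 3, 4, 3]) = true := by decide +kernel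

theorem rot4_14 : T.rot 4 [1, 2, 1, 2, 3, 4, 4, 3, 4, 3, 4, 1] (sel (ones 960) ip4 14) = true := by decide +kernel

theorem rot4_14r : band (Rule.ok (2 * 0) EX RL ⟨4 :: [1, 2, 1, 2, 3, 4, 4, 3, 4, 3, 4, 1], [2, 1], 4, false⟩) (lall (memL L) [1, 2, 1, 2, 3, 4, 4, 3, 4, 3, 4, 1]) = true := by decide +kernel

theorem rot4_15 : T.rot 4 [4, 3, 4, 3, 4, 1, 4, 1, 2, 1, 2, 3] (sel (ones 960) ip4 15) = true := by decide +kernel

theorem rot4_15r : band (Rule.ok (2 * 0) EX RL ⟨4 :: [4, 3, 4, 3, 4, 1, 4, 1, 2, 1, 2, 3], [1, 3, 1, 3, 3], 4, false⟩) (lall (memL L) [4, 3, 4, 3, 4, 1, 4, 1, 2, 1, 2, 3]) = true := by decide +kernel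

theorem rot4_16 : T.rot 4 [3, 4, 3, 4, 1, 4, 1, 2, 1, 2, 3, 4] (sel (ones 960) ip4 16) = true := by decide +kernel

theorem rot4_16r : band (Rule.ok (2 * 0) EX RL ⟨4 :: [3, 4, 3, 4, 1, 4, 1, 2, 1, 2, 3, 4], [1, 3, 1, 3], 4, false⟩) (lall (memL L) [3, 4, 3, 4, 1, 4, 1, 2, 1, 2, 3, 4]) = true := by decide +kernel

theorem rot4_17 : T.rot 4 [3, 4, 1, 4, 1, 2, 1, 2, 3, 4, 4, 3] (sel (ones 960) ip4 17) = true := by decide +kernel

theorem rot4_17r : band (Rule.ok (2 * 0) EX RL ⟨4 :: [3, 4, 1, 4, 1, 2, 1, 2, 3, 4, 4, 3], [1, 3], 4, false⟩) (lall (memL L) [3, 4, 1, 4, 1, 2, 1, 2, 3, 4, 4, 3]) = true := by decide +kernel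

theorem cov4 : T.cover 4 [(sel (ones 960) ip4 1), (sel (ones 960) ip4 2), (sel (ones 960) ip4 3), (sel (ones 960) ip4 4), (sel (ones 960) ip4 5), (sel (ones 960) ip4 6), (sel (ones 960) ip4 7), (sel (ones 960) ip4 8), (sel (ones 960) ip4 9), (sel (ones 960) ip4 10), (sel (ones 960) ip4 11), (sel (ones 960) ip4 12), (sel (ones 960) ip4 13), (sel (ones 960) ip4 14), (sel (ones 960) ip4 15), (sel (ones 960) ip4 16), (sel (ones 960) ip4 17)] = true := by decide +kernel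

theorem tl4 : T.treeLt 10 4 = true := by decide +kernel

end Cfsg.Agent.Spor.J4K
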